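import Cfsg.Agent.H626.IFO.Defs
import Cfsg.Agent.LieClassical.OrthSimple
import Cfsg.Agent.ClassicalGeometry.InvolutiveNorm

/-!
# S5719, `|A|` odd, orthogonal groups: the field case (helper442)

`R ≤ O(Q)` commutative of exponent `r` (an odd prime), `F[R]` a field, `V` a cyclic `F[R]`-module, `4 ∣ dim V`, `q` odd:
there is an isometry `φ` with `φ x φ⁻¹ = x^q` for `x ∈ R`; `φ²` shows `EvN Q R`.
-/

set_option autoImplicit false

namespace Cfsg.Agent.H442.IFO

open QuadraticMap Module Cfsg.Agent.LieClassical.OrthCore Cfsg.Agent.LieClassical.OrthTrans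

section core

variable {F V L : Type*} [Field F] [AddCommGroup V] [Module F V] [Field L] [Algebra F L]

/-- a field acting on a quadratic space, closed under adjoints, with a cyclic vector -/
structure Dt (Q : QuadraticForm F V) (ι : L →ₐ[F] Module.End F V) (u : V) : Prop where
  nd : Nondeg Q
  two : (2 : F) ≠ 0
  u0 : u ≠ 0
  sur : ∀ v, ∃ a : L, ι a u = v
  adj : ∀ a : L, ∃ b : L, ∀ v w, polar Q (ι a v) w = polar Q v (ι b w)

variable {Q : QuadraticForm F V} {ι : L →ₐ[F] Module.End F V} {u : V} (h : Dt Q ι u)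

include h

theorem Dt.zero {a : L} (ha : ι a u = 0) : a = 0 := by
  by_contra h0
  apply h.u0
  have e : ι (a⁻¹ * a) u = ι a⁻¹ (ι a u) := by rw [map_mul]; rfl
  rw [inv_mul_cancel₀ h0, map_one, ha, map_zero] at e
  exact e

theorem Dt.inj {a b : L} (ha : ι a u = ι b u) : a = b := by
  apply sub_eq_zero.1
  apply h.zero
  rw [map_sub, LinearMap.sub_apply, ha, sub_self]

/-- uniqueness of adjoints -/
theorem Dt.uniq {b b' : L} (hb : ∀ v w, polar Q v (ι b w) = polar Q v (ι b' w)) : b = b' := by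
  apply h.inj
  apply sub_eq_zero.1
  apply h.nd
  intro y
  rw [polar_sub_left, polar_comm _ _ y, hb y u, polar_comm _ _ y, sub_self]

/-- the adjoint -/
noncomputable def Dt.ad (a : L) : L := (h.adj a).choose

theorem Dt.ad_spec (a : L) (v w : V) : polar Q (ι a v) w = polar Q v (ι (h.ad a) w) := (h.adj a).choose_spec v w

/-- the adjoint as a ring homomorphism -/
noncomputable def Dt.sg : L →+* L where
  toFun := h.ad
  map_one' := h.uniq fun v w => by
    rw [← h.ad_spec, map_one]; rfl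
  map_mul' a b := h.uniq fun v w => by
    rw [← h.ad_spec, map_mul, map_mul]
    change polar Q (ι a (ι b v)) w = polar Q v (ι (h.ad a) (ι (h.ad b) w))
    rw [h.ad_spec, h.ad_spec, ← Module.End.mul_apply, ← Module.End.mul_apply, ← map_mul, ← map_mul, mul_comm]
  map_zero' := h.uniq fun v w => by
    rw [← h.ad_spec, map_zero, LinearMap.zero_apply, LinearMap.zero_apply, polar_zero_left, polar_zero_right]
  map_add' a b := h.uniq fun v w => by
    rw [← h.ad_spec, map_add, map_add, LinearMap.add_apply, LinearMap.add_apply, polar_add_left, polar_add_right,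
      h.ad_spec, h.ad_spec]

theorem Dt.sg_spec (a : L) (v w : V) : polar Q (ι a v) w = polar Q v (ι (h.sg a) w) := h.ad_spec a v w

theorem Dt.sg_eq {a b : L} (hb : ∀ v w, polar Q (ι a v) w = polar Q v (ι b w)) : h.sg a = b :=
  h.uniq fun v w => by rw [← h.sg_spec, hb]

theorem Dt.sg_sg (a : L) : h.sg (h.sg a) = a :=
  h.sg_eq fun v w => by rw [polar_comm, ← h.sg_spec, polar_comm]

/-- the functional -/
noncomputable def Dt.lam (_h : Dt Q ι u) : L →ₗ[F] F where
  toFun s := polar Q (ι s u) u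
  map_add' s t := by rw [map_add, LinearMap.add_apply, polar_add_left]
  map_smul' c s := by rw [map_smul, LinearMap.smul_apply, polar_smul_left]; rfl

theorem Dt.lam_apply (s : L) : h.lam s = polar Q (ι s u) u := rfl

theorem Dt.ff (a b : L) : polar Q (ι a u) (ι b u) = h.lam (h.sg b * a) := by
  rw [polar_comm, h.sg_spec, h.lam_apply, map_mul, polar_comm]
  rfl

theorem Dt.lam_sg (a : L) : h.lam (h.sg a) = h.lam a := by
  rw [h.lam_apply, h.lam_apply, polar_comm, ← h.sg_spec]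

theorem Dt.lam_nd {a : L} (ha : ∀ b, h.lam (b * a) = 0) : a = 0 := by
  apply h.zero
  apply h.nd
  intro y
  obtain ⟨b, rfl⟩ := h.sur y
  rw [h.ff, ha]

/-- the linear equivalence `a ↦ a u` -/
noncomputable def Dt.e (h : Dt Q ι u) : L ≃ₗ[F] V :=
  LinearEquiv.ofBijective ((LinearMap.applyₗ (R := F) u) ∘ₗ ι.toLinearMap) ⟨fun _ _ hab => h.inj hab, h.sur⟩

theorem Dt.e_apply (a : L) : h.e a = ι a u := rfl

end core

section frob

variable {F V L : Type*} [Field F] [Fintype F] [AddCommGroup V] [Module F V] [Field L] [Finite L] [Algebra F L]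
  {Q : QuadraticForm F V} {ι : L →ₐ[F] Module.End F V} {u : V} (h : Dt Q ι u)

include h

theorem Dt.exists_c : ∃ c : L, ∀ s, h.lam (c * s ^ Fintype.card F) = h.lam s := by
  have : FiniteDimensional F L := inferInstance
  let φ : L ≃ₐ[F] L := FiniteField.frobeniusAlgEquivOfAlgebraic F L
  let T : L →ₗ[F] (L →ₗ[F] F) :=
    { toFun := fun c => h.lam ∘ₗ LinearMap.mulLeft F c
      map_add' := fun a b => by ext s; simp [add_mul]
      map_smul' := fun a b => by ext s; simp }
  have hT : ∀ c s, T c s = h.lam (c * s) := fun c s => rfl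
  have hinj : Function.Injective T := by
    rw [injective_iff_map_eq_zero]
    intro a ha
    apply h.lam_nd
    intro b
    rw [mul_comm, ← hT, ha]
    rfl
  have hsur : Function.Surjective T :=
    (LinearMap.injective_iff_surjective_of_finrank_eq_finrank (Subspace.dual_finrank_eq).symm).1 hinj
  obtain ⟨c, hc⟩ := hsur (h.lam ∘ₗ φ.symm.toLinearMap)
  refine ⟨c, fun s => ?_⟩
  have h1 := congrArg (fun g : L →ₗ[F] F => g (φ s)) hc
  change h.lam (c * φ s) = h.lam (φ.symm (φ s)) at h1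
  rw [AlgEquiv.symm_apply_apply] at h1
  exact h1

omit h [AddCommGroup V] [Module F V] in
theorem pow_surj (s : L) : ∃ a : L, a ^ Fintype.card F = s := by
  obtain ⟨a, ha⟩ := (FiniteField.frobeniusAlgEquivOfAlgebraic F L).surjective s
  exact ⟨a, ha⟩

/-- the Frobenius isometry -/
theorem Dt.exists_frob (hs : ∃ a, h.sg a ≠ a) : ∃ Φ : V ≃ₗ[F] V, (∀ v, Q (Φ v) = Q v) ∧
    ∀ (a : L) (v : V), Φ (ι a v) = ι (a ^ Fintype.card F) (Φ v) := by
  obtain ⟨c, hc⟩ := h.exists_c
  have hcs : h.sg c = c := by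
    apply sub_eq_zero.1
    apply h.lam_nd
    intro b
    obtain ⟨a, rfl⟩ := pow_surj (F := F) b
    have e1 : h.lam (h.sg c * a ^ Fintype.card F) = h.lam (c * a ^ Fintype.card F) := by
      rw [hc, ← h.lam_sg, map_mul, h.sg_sg, map_pow, hc, h.lam_sg]
    rw [mul_sub, mul_comm _ (h.sg c), mul_comm _ c, map_sub, e1, sub_self]
  obtain ⟨a₁, ha₁⟩ := hs
  obtain ⟨t, ht⟩ := Cfsg.Agent.ClassicalGeometry.InvolutiveNorm.exists_mul_sigma_eq (σ := h.sg)
    (fun h1 => ha₁ (by rw [h1]; rfl)) h.sg_sg hcs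
  have hc0 : c ≠ 0 := by
    rintro rfl
    have h1 : (1 : L) = 0 := by
      apply h.lam_nd
      intro b
      rw [← hc, zero_mul, map_zero]
    exact one_ne_zero h1
  have ht0 : t ≠ 0 := by
    rintro rfl
    rw [zero_mul] at ht
    exact hc0 ht.symm
  let φ : L ≃ₐ[F] L := FiniteField.frobeniusAlgEquivOfAlgebraic F L
  let Tt : V ≃ₗ[F] V := LinearEquiv.ofLinearMap (ι t) (ι t⁻¹)
    (by
      have e : ι (t * t⁻¹) = ι t ∘ₗ ι t⁻¹ := by rw [map_mul]; rfl
      rw [← e, mul_inv_cancel₀ ht0, map_one]; rfl)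
    (by
      have e : ι (t⁻¹ * t) = ι t⁻¹ ∘ₗ ι t := by rw [map_mul]; rfl
      rw [← e, inv_mul_cancel₀ ht0, map_one]; rfl)
  let Φ : V ≃ₗ[F] V := h.e.symm.trans (φ.toLinearEquiv.trans (h.e.trans Tt))
  have hΦ : ∀ a : L, Φ (ι a u) = ι (t * a ^ Fintype.card F) u := by
    intro a
    change ι t (h.e (φ (h.e.symm (h.e a)))) = _
    rw [LinearEquiv.symm_apply_apply, h.e_apply, map_mul]
    rfl
  have hpol : ∀ v w, polar Q (Φ v) (Φ w) = polar Q v w := by
    intro v w
    obtain ⟨a, rfl⟩ := h.sur v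
    obtain ⟨b, rfl⟩ := h.sur w
    rw [hΦ, hΦ, h.ff, h.ff, map_mul h.sg, map_pow h.sg]
    have e : h.sg t * h.sg b ^ Fintype.card F * (t * a ^ Fintype.card F) = c * (h.sg b * a) ^ Fintype.card F := by
      rw [← ht, mul_pow]; ring
    rw [e, hc]
  refine ⟨Φ, fun v => ?_, fun a v => ?_⟩
  · have h1 := hpol v v
    rw [QuadraticMap.polar_self, QuadraticMap.polar_self] at h1
    have h2 : (2 : F) * Q (Φ v) = 2 * Q v := by simpa using h1
    exact mul_left_cancel₀ h.two h2
  · obtain ⟨b, rfl⟩ := h.sur v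
    have e : ι a (ι b u) = ι (a * b) u := by rw [map_mul]; rfl
    rw [e, hΦ, hΦ, mul_pow, ← Module.End.mul_apply, ← map_mul]
    congr 2
    ring

end frob

section main

variable {F V : Type*} [Field F] [AddCommGroup V] [Module F V] {Q : QuadraticForm F V}

/-- squares of isometries are in `E Q` -/
theorem sq_mem_E [FiniteDimensional F V] (hG : Good Q) {g : V ≃ₗ[F] V} (hg : g ∈ O Q) : g * g ∈ E Q := by
  have hcomm : ∀ g ∈ O Q, ∀ h ∈ O Q, g * h * g⁻¹ * h⁻¹ ∈ E Q := by
    intro g hg h hh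
    rw [← hG.commutator_eq_E]
    exact Subgroup.commutator_mem_commutator hg hh
  rw [O_eq_closure hG.nondeg] at hg
  have hle : ∀ x ∈ Subgroup.closure (reflSet Q ∪ siegelSet Q), x ∈ O Q := fun x hx => by
    rw [O_eq_closure hG.nondeg]; exact hx
  induction hg using Subgroup.closure_induction with
  | mem x hx =>
    rcases hx with ⟨v, hv, rfl⟩ | hx
    · rw [refl_mul_self]; exact one_mem _
    · exact mul_mem (Subgroup.subset_closure hx) (Subgroup.subset_closure hx)
  | one => rw [one_mul]; exact one_mem _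
  | mul g h hg hh h1 h2 =>
    have e : g * h * (g * h) = (g * g) * (g⁻¹ * h * g⁻¹⁻¹ * h⁻¹) * (h * h) := by group
    rw [e]
    exact mul_mem (mul_mem h1 (hcomm _ (inv_mem (hle g hg)) _ (hle h hh))) h2
  | inv g hg h =>
    have e : g⁻¹ * g⁻¹ = (g * g)⁻¹ := by group
    rw [e]
    exact inv_mem h

/-- the generators of the algebra -/
def gens (R : Subgroup (V ≃ₗ[F] V)) : Set (Module.End F V) := {a | ∃ x ∈ R, a = (x : V →ₗ[F] V)}

theorem coe_pow' (x : V ≃ₗ[F] V) (n : ℕ) : (x : V →ₗ[F] V) ^ n = ((x ^ n : V ≃ₗ[F] V) : V →ₗ[F] V) := by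
  induction n with
  | zero => rfl
  | succ n ih => rw [pow_succ, pow_succ, ih]; rfl

/-- conjugation by powers -/
theorem conj_pow_pow {G : Type*} [Group G] {y x : G} {N : ℕ} {R : Subgroup G}
    (h : ∀ x ∈ R, y * x * y⁻¹ = x ^ N) (hx : x ∈ R) (k : ℕ) : y ^ k * x * (y ^ k)⁻¹ = x ^ (N ^ k) := by
  induction k with
  | zero => rw [pow_zero, pow_zero, pow_one, one_mul, inv_one, mul_one]
  | succ k ih =>
    have e : y ^ (k + 1) * x * (y ^ (k + 1))⁻¹ = y * (y ^ k * x * (y ^ k)⁻¹) * y⁻¹ := by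
      rw [pow_succ']; group
    rw [e, ih, conj_pow.symm, h x hx, ← pow_mul, pow_succ']

/-- **the field case, abstract form** -/
theorem evN_of {L : Type*} [Finite F] [FiniteDimensional F V] [Field L] [Finite L] [Algebra F L] (hG : Good Q)
    (h2 : (2 : F) ≠ 0) (h4 : 4 ∣ Module.finrank F V) {R : Subgroup (V ≃ₗ[F] V)} (hR : R ≤ O Q)
    {r : ℕ} (hr : Odd r) (hpow : ∀ x ∈ R, x ^ r = 1) (hR1 : R ≠ ⊥) (ι : L →ₐ[F] Module.End F V)
    (hι : ∀ x ∈ R, ∃ a : L, ι a = (x : V →ₗ[F] V)) (hιR : ∀ a : L, ι a ∈ Algebra.adjoin F (gens R)) (u : V)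
    (hu : ∀ v, ∃ a : L, ι a u = v) : H626.IFO.EvN Q R := by
  classical
  have := Fintype.ofFinite F
  have hu0 : u ≠ 0 := by
    rintro rfl
    obtain ⟨x, hx0, hx⟩ := hG.sing
    obtain ⟨a, ha⟩ := hu x
    rw [map_zero] at ha
    exact hx0 ha.symm
  have hadj : ∀ T ∈ Algebra.adjoin F (gens R), ∃ b : L, ∀ v w, polar Q (T v) w = polar Q v (ι b w) := by
    intro T hT
    induction hT using Algebra.adjoin_induction with
    | mem T hT =>
      obtain ⟨x, hx, rfl⟩ := hT
      obtain ⟨b, hb⟩ := hι x⁻¹ (inv_mem hx)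
      refine ⟨b, fun v w => ?_⟩
      rw [hb]
      have e := polar_map (hR hx) v (x⁻¹ w)
      have e2 : x (x⁻¹ w) = w := by
        change (x * x⁻¹) w = w
        rw [mul_inv_cancel]; rfl
      rw [e2] at e
      exact e
    | algebraMap c =>
      refine ⟨algebraMap F L c, fun v w => ?_⟩
      rw [AlgHom.commutes, Module.algebraMap_end_apply, Module.algebraMap_end_apply, polar_smul_left, polar_smul_right]
    | add S T _ _ hS hT =>
      obtain ⟨b, hb⟩ := hS
      obtain ⟨c, hc⟩ := hT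
      refine ⟨b + c, fun v w => ?_⟩
      rw [LinearMap.add_apply, polar_add_left, map_add, LinearMap.add_apply, polar_add_right, hb, hc]
    | mul S T _ _ hS hT =>
      obtain ⟨b, hb⟩ := hS
      obtain ⟨c, hc⟩ := hT
      refine ⟨c * b, fun v w => ?_⟩
      rw [Module.End.mul_apply, hb, hc, map_mul]
      rfl
  have hD : Dt Q ι u := ⟨hG.nondeg, h2, hu0, hu, fun a => hadj _ (hιR a)⟩
  -- the adjoint is nontrivial
  obtain ⟨x₀, hx₀, hx₁⟩ : ∃ x ∈ R, x ≠ 1 := by
    by_contra hcon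
    push Not at hcon
    exact hR1 ((Subgroup.eq_bot_iff_forall R).2 hcon)
  have hs : ∃ a, hD.sg a ≠ a := by
    obtain ⟨a, ha⟩ := hι x₀ hx₀
    refine ⟨a, fun hsa => hx₁ ?_⟩
    have h1 : x₀ * x₀ = 1 := by
      apply LinearEquiv.ext
      intro w
      apply sub_eq_zero.1
      apply hG.nondeg
      intro y
      have e1 := hD.sg_spec a y (x₀ w)
      rw [hsa, ha] at e1
      change polar Q (x₀ y) (x₀ w) = polar Q y (x₀ (x₀ w)) at e1
      rw [polar_map (hR hx₀)] at e1
      change polar Q (x₀ (x₀ w) - w) y = 0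
      rw [polar_sub_left, polar_comm _ _ y, ← e1, polar_comm _ w y, sub_self]
    obtain ⟨j, rfl⟩ := hr
    have h3 := hpow x₀ hx₀
    rw [pow_succ, pow_mul, pow_two, h1, one_pow, one_mul] at h3
    exact h3
  obtain ⟨Φ, hΦ, hΦ2⟩ := hD.exists_frob hs
  set q := Fintype.card F with hq
  have hconj : ∀ x ∈ R, Φ * x * Φ⁻¹ = x ^ q := by
    intro x hx
    obtain ⟨a, ha⟩ := hι x hx
    rw [mul_inv_eq_iff_eq_mul]
    apply LinearEquiv.ext
    intro v
    have e := hΦ2 a v
    rw [map_pow, ha] at e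
    change Φ (x v) = (x ^ q) (Φ v)
    rw [coe_pow'] at e
    exact e
  have hconj2 : ∀ x ∈ R, Φ * Φ * x * (Φ * Φ)⁻¹ = x ^ (q ^ 2) := by
    intro x hx
    have := conj_pow_pow hconj hx 2
    rwa [pow_two Φ] at this
  refine ⟨Φ * Φ, sq_mem_E hG hΦ, fun x hx => by rw [hconj2 x hx]; exact pow_mem hx _, ?_⟩
  rintro k hk ⟨c, hcs⟩
  -- the power acts trivially
  have h5 : ∀ x ∈ R, x ^ (q ^ (2 * k)) = x := by
    intro x hx
    have h6 := conj_pow_pow hconj2 hx k
    rw [← pow_mul] at h6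
    rw [← h6, mul_inv_eq_iff_eq_mul]
    apply LinearEquiv.ext
    intro v
    change ((Φ * Φ) ^ k) (x v) = x (((Φ * Φ) ^ k) v)
    rw [hcs, hcs, map_smul]
  let φ : L →ₐ[F] L := FiniteField.frobeniusAlgHom F L
  have hφ : ∀ (n : ℕ) (a : L), (φ ^ n) a = a ^ (q ^ n) := by
    intro n a
    rw [AlgHom.coe_pow]
    change (FiniteField.frobeniusAlgHom F L)^[n] a = _
    rw [FiniteField.coe_frobeniusAlgHom, pow_iterate]
  have h7 : ∀ T ∈ Algebra.adjoin F (gens R), ∃ a : L, ι a = T ∧ (φ ^ (2 * k)) a = a := by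
    intro T hT
    induction hT using Algebra.adjoin_induction with
    | mem T hT =>
      obtain ⟨x, hx, rfl⟩ := hT
      obtain ⟨a, ha⟩ := hι x hx
      refine ⟨a, ha, ?_⟩
      rw [hφ]
      apply hD.inj
      rw [map_pow, ha, coe_pow', h5 x hx]
    | algebraMap c => exact ⟨algebraMap F L c, AlgHom.commutes _ _, AlgHom.commutes _ _⟩
    | add S T _ _ hS hT =>
      obtain ⟨a, ha, ha'⟩ := hS
      obtain ⟨b, hb, hb'⟩ := hT
      exact ⟨a + b, by rw [map_add, ha, hb], by rw [map_add, ha', hb']⟩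
    | mul S T _ _ hS hT =>
      obtain ⟨a, ha, ha'⟩ := hS
      obtain ⟨b, hb, hb'⟩ := hT
      exact ⟨a * b, by rw [map_mul, ha, hb], by rw [map_mul, ha', hb']⟩
  have h8 : φ ^ (2 * k) = 1 := by
    apply AlgHom.ext
    intro a
    obtain ⟨b, hb, hb'⟩ := h7 _ (hιR a)
    have : b = a := hD.inj (congrArg (fun T : Module.End F V => T u) hb)
    rw [← this, hb']
    rfl
  have h9 := orderOf_dvd_of_pow_eq_one h8
  rw [FiniteField.orderOf_frobeniusAlgHom, hD.e.finrank_eq] at h9
  have h10 := h4.trans h9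
  obtain ⟨j, rfl⟩ := hk
  omega

/-- a finite commutative ring without zero divisors is a field -/
@[reducible] noncomputable def fieldOf (K : Type*) [CommRing K] [Finite K] [Nontrivial K] [DecidableEq K]
    (h : ∀ a : K, a ≠ 0 → Function.Injective fun b : K => a * b) : Field K :=
  { (inferInstance : CommRing K) with
    inv := fun a => if ha : a = 0 then 0 else
      (Finite.surjective_of_injective (h a ha) 1).choose
    exists_pair_ne := exists_pair_ne K
    mul_inv_cancel := fun a ha => by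
      change a * (if ha : a = 0 then 0 else (Finite.surjective_of_injective (h a ha) 1).choose) = 1
      rw [dif_neg ha]
      exact (Finite.surjective_of_injective (h a ha) 1).choose_spec
    inv_zero := dif_pos rfl
    nnqsmul := _
    nnqsmul_def := fun _ _ => rfl
    qsmul := _
    qsmul_def := fun _ _ => rfl }

/-- **the field case** -/
theorem evN_field [Finite F] [FiniteDimensional F V] (hG : Good Q) (h2 : (2 : F) ≠ 0)
    (h4 : 4 ∣ Module.finrank F V) {R : Subgroup (V ≃ₗ[F] V)} (hR : R ≤ O Q)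
    (hc : ∀ x ∈ R, ∀ y ∈ R, x * y = y * x) {r : ℕ} (hr : r.Prime) (hr2 : r ≠ 2) (hrF : (r : F) ≠ 0)
    (hpow : ∀ x ∈ R, x ^ r = 1) (hR1 : R ≠ ⊥)
    (hK : ∀ a ∈ Algebra.adjoin F {a : Module.End F V | ∃ x ∈ R, a = (x : V →ₗ[F] V)}, a ≠ 0 → Function.Injective a)
    (u : V) (hu : ∀ v, ∃ a ∈ Algebra.adjoin F {a : Module.End F V | ∃ x ∈ R, a = (x : V →ₗ[F] V)}, a u = v) :
    H626.IFO.EvN Q R := by
  classical
  have hcomm : ∀ a ∈ gens R, ∀ b ∈ gens R, a * b = b * a := by
    rintro _ ⟨x, hx, rfl⟩ _ ⟨y, hy, rfl⟩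
    have := hc x hx y hy
    ext v
    exact LinearEquiv.congr_fun this v
  have hVf : Finite V := Module.finite_of_finite F
  have hEf : Finite (Module.End F V) := Finite.of_injective (fun f : Module.End F V => (f : V → V)) DFunLike.coe_injective
  obtain ⟨x₀, hx₀, hx₀'⟩ := hG.sing
  have hVn : Nontrivial V := ⟨x₀, 0, hx₀⟩
  let _ : CommRing ↥(Algebra.adjoin F (gens R)) :=
    { (inferInstance : Ring ↥(Algebra.adjoin F (gens R))) with
      mul_comm := fun a b => (Algebra.isMulCommutative_adjoin F hcomm).is_comm.comm a b }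
  have hKf : Finite ↥(Algebra.adjoin F (gens R)) := inferInstance
  let _ : Field ↥(Algebra.adjoin F (gens R)) := fieldOf _ (fun a ha b c hbc => by
    apply Subtype.ext
    have hinj := hK a.1 a.2 (fun h0 => ha (Subtype.ext h0))
    apply LinearMap.ext
    intro v
    apply hinj
    have := congrArg (fun z : ↥(Algebra.adjoin F (gens R)) => (z : Module.End F V) v) hbc
    exact this)
  refine evN_of (L := ↥(Algebra.adjoin F (gens R))) hG h2 h4 hR (hr.odd_of_ne_two hr2) hpow hR1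
    (Algebra.adjoin F (gens R)).val (fun x hx => ⟨⟨_, Algebra.subset_adjoin ⟨x, hx, rfl⟩⟩, rfl⟩) (fun a => a.2) u ?_
  intro v
  obtain ⟨a, ha, hav⟩ := hu v
  exact ⟨⟨a, ha⟩, hav⟩

end main

end Cfsg.Agent.H442.IFO
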